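import Groth.Agent.Sga1.QuotBasic
import Groth.Agent.CAlg.K93.RetractFP
import Groth.Agent.S2908
import Groth.Agent.S2909
import Mathlib.AlgebraicGeometry.Morphisms.Flat
import Mathlib.AlgebraicGeometry.Morphisms.FinitePresentation
import Mathlib.AlgebraicGeometry.Morphisms.Proper

/-!
# Quotients by finite groups of invertible order: flatness, finite presentation, properness
-/

set_option autoImplicit false
universe u

open CategoryTheory CategoryTheory.Limits AlgebraicGeometry

namespace K754.TameQuot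

open Groth.Agent.Sga1.QuotBasic

variable {X Y S : Scheme.{u}} {G : Type u} [Group G] [Finite G] {ρ : G →* Aut X} {p : X ⟶ Y}

/-- The Reynolds operator over an open. -/
theorem exists_reynolds (hp : SGA1.IsQuot ρ p) (V : Y.Opens)
    (hN : IsUnit ((Nat.card G : ℕ) : Γ(Y, V))) :
    letI := (p.app V).hom.toAlgebra
    ∃ r : Γ(X, p ⁻¹ᵁ V) →ₗ[Γ(Y, V)] Γ(Y, V), ∀ c, r (algebraMap _ _ c) = c := by
  classical
  have := Fintype.ofFinite G
  letI := (p.app V).hom.toAlgebra
  obtain ⟨c, hc⟩ := hN.exists_right_inv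
  rw [Nat.card_eq_fintype_card] at hc
  have hq := quotOn_of_isQuot hp V
  have hst := stable_preimage hp.inv V
  have htr : ∀ b : Γ(X, p ⁻¹ᵁ V), ∃ a : Γ(Y, V), (p.app V).hom a = ∑ g, (act ρ hst g).hom b := by
    intro b
    obtain ⟨a, ha⟩ := hq.surj (∑ g, (act ρ hst g).hom b) (fun h => by
      rw [map_sum]
      refine Fintype.sum_equiv (Equiv.mulRight h) _ _ (fun g => ?_)
      rw [Equiv.coe_mulRight, act_mul_apply])
    exact ⟨a, ha⟩
  choose tr htr using htr
  have halg : ∀ a : Γ(Y, V), algebraMap Γ(Y, V) Γ(X, p ⁻¹ᵁ V) a = (p.app V).hom a := fun _ => rfl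
  let T : Γ(X, p ⁻¹ᵁ V) →ₗ[Γ(Y, V)] Γ(Y, V) :=
    { toFun := fun b => tr b
      map_add' := fun x y => by
        apply hq.injective
        rw [map_add, htr, htr, htr, ← Finset.sum_add_distrib]
        exact Finset.sum_congr rfl fun g _ => map_add _ _ _
      map_smul' := fun r x => by
        apply hq.injective
        rw [RingHom.id_apply, smul_eq_mul, map_mul, htr, htr, Finset.mul_sum]
        refine Finset.sum_congr rfl fun g _ => ?_
        rw [Algebra.smul_def, map_mul, halg, act_app_apply hp.inv] }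
  refine ⟨c • T, fun a => ?_⟩
  apply hq.injective
  change (p.app V).hom (c * tr (algebraMap _ _ a)) = _
  rw [map_mul, htr, halg]
  have h1 : ∀ g : G, (act ρ hst g).hom ((p.app V).hom a) = (p.app V).hom a :=
    fun g => act_app_apply hp.inv V g a
  rw [Finset.sum_congr rfl (fun g _ => h1 g), Finset.sum_const, Finset.card_univ, nsmul_eq_mul,
    ← mul_assoc]
  have h2 : (p.app V).hom c * ((Fintype.card G : ℕ) : Γ(X, p ⁻¹ᵁ V)) = 1 := by
    have h3 := congrArg (p.app V).hom hc
    rw [map_mul, map_natCast, map_one, mul_comm] at h3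
    exact h3
  rw [h2, one_mul]

theorem isUnit_card_of_top {T : Scheme.{u}} {n : ℕ} (h : IsUnit ((n : ℕ) : Γ(T, ⊤))) (V : T.Opens) :
    IsUnit ((n : ℕ) : Γ(T, V)) := by
  have h3 := h.map (T.presheaf.map (homOfLE (le_top : V ≤ ⊤)).op).hom
  rwa [map_natCast] at h3

theorem isUnit_card_pull {T T' : Scheme.{u}} (q : T' ⟶ T) {n : ℕ}
    (h : IsUnit ((n : ℕ) : Γ(T, ⊤))) : IsUnit ((n : ℕ) : Γ(T', ⊤)) := by
  have h3 := h.map q.appTop.hom
  rwa [map_natCast] at h3

variable {f : X ⟶ S} {q : Y ⟶ S}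

/-- If `X` is flat over `S` and the order of `G` is invertible, the quotient is flat over `S`. -/
theorem flat (hp : SGA1.IsQuot ρ p) (hq : p ≫ q = f) (hN : IsUnit ((Nat.card G : ℕ) : Γ(S, ⊤)))
    [Flat f] : Flat q := by
  rw [HasRingHomProperty.iff_appLE (P := @Flat)]
  intro W V e
  have hf : (f.appLE W.1 (p ⁻¹ᵁ V.1) (by rw [← hq, Scheme.Hom.comp_preimage]; exact p.preimage_mono e)).hom.Flat := by
    have := hp.affine
    exact HasRingHomProperty.appLE (P := @Flat) f inferInstance W ⟨p ⁻¹ᵁ V.1, V.2.preimage p⟩ _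
  have hNV := isUnit_card_of_top (isUnit_card_pull q hN) V.1
  obtain ⟨r, hr⟩ := exists_reynolds hp V.1 hNV
  have hcomp : f.appLE W.1 (p ⁻¹ᵁ V.1) (by rw [← hq, Scheme.Hom.comp_preimage]; exact p.preimage_mono e) =
      q.appLE W.1 V.1 e ≫ p.app V.1 := by
    subst hq
    rw [Scheme.Hom.app_eq_appLE, Scheme.Hom.appLE_comp_appLE]
  rw [hcomp] at hf
  algebraize [(q.appLE W.1 V.1 e).hom, (p.app V.1).hom, (p.app V.1).hom.comp (q.appLE W.1 V.1 e).hom]
  have hfl : Module.Flat Γ(S, W.1) Γ(X, p ⁻¹ᵁ V.1) := hf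
  change Module.Flat Γ(S, W.1) Γ(Y, V.1)
  exact Module.Flat.of_retract (IsScalarTower.toAlgHom Γ(S, W.1) Γ(Y, V.1) Γ(X, p ⁻¹ᵁ V.1)).toLinearMap
    (r.restrictScalars Γ(S, W.1)) (by ext c; exact hr c)

/-- If `X` is locally of finite presentation over `S` and the order of `G` is invertible, the quotient is locally
of finite presentation over `S`. -/
theorem locallyOfFinitePresentation (hp : SGA1.IsQuot ρ p) (hq : p ≫ q = f)
    (hρ : ∀ g : G, (ρ g).hom ≫ f = f)
    (hN : IsUnit ((Nat.card G : ℕ) : Γ(S, ⊤))) [LocallyOfFinitePresentation f] :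
    LocallyOfFinitePresentation q := by
  have hfin : IsFinite p := (Groth.Agent.S2909.result ρ p hp f q hq hρ).2.2.1 inferInstance
  rw [HasRingHomProperty.iff_appLE (P := @LocallyOfFinitePresentation)]
  intro W V e
  have hf : (f.appLE W.1 (p ⁻¹ᵁ V.1) (by rw [← hq, Scheme.Hom.comp_preimage]; exact p.preimage_mono e)).hom.FinitePresentation := by
    have := hp.affine
    exact HasRingHomProperty.appLE (P := @LocallyOfFinitePresentation) f inferInstance W
      ⟨p ⁻¹ᵁ V.1, V.2.preimage p⟩ _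
  have hNV := isUnit_card_of_top (isUnit_card_pull q hN) V.1
  obtain ⟨r, hr⟩ := exists_reynolds hp V.1 hNV
  have hcomp : f.appLE W.1 (p ⁻¹ᵁ V.1) (by rw [← hq, Scheme.Hom.comp_preimage]; exact p.preimage_mono e) =
      q.appLE W.1 V.1 e ≫ p.app V.1 := by
    subst hq
    rw [Scheme.Hom.app_eq_appLE, Scheme.Hom.appLE_comp_appLE]
  rw [hcomp] at hf
  have hfm : (p.app V.1).hom.Finite := IsFinite.finite_app p V.1 V.2
  algebraize [(q.appLE W.1 V.1 e).hom, (p.app V.1).hom, (p.app V.1).hom.comp (q.appLE W.1 V.1 e).hom]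
  have hfl : Algebra.FinitePresentation Γ(S, W.1) Γ(X, p ⁻¹ᵁ V.1) := hf
  change Algebra.FinitePresentation Γ(S, W.1) Γ(Y, V.1)
  exact K93.RetractFP.finitePresentation_of_retract (A := Γ(X, p ⁻¹ᵁ V.1)) r hr

/-- Properties of the quotient morphism. -/
theorem isOpenMap (hp : SGA1.IsQuot ρ p) : IsOpenMap p := by
  obtain ⟨-, hfib, hqm⟩ := Groth.Agent.S2908.result ρ p hp
  intro U hU
  rw [← hqm.isOpen_preimage]
  have h1 : p.base ⁻¹' (p.base '' U) = ⋃ g : G, (ρ g).hom.base ⁻¹' U := by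
    ext x
    simp only [Set.mem_preimage, Set.mem_image, Set.mem_iUnion]
    constructor
    · rintro ⟨x', hx', h⟩
      obtain ⟨g, hg⟩ := (hfib x x').mp h.symm
      exact ⟨g, by rw [hg]; exact hx'⟩
    · rintro ⟨g, hg⟩
      exact ⟨_, hg, ((hfib x _).mpr ⟨g, rfl⟩).symm⟩
  change IsOpen (p.base ⁻¹' (p.base '' U))
  rw [h1]
  exact isOpen_iUnion fun g => hU.preimage (ρ g).hom.continuous

theorem isProper (hp : SGA1.IsQuot ρ p) (hq : p ≫ q = f)
    (hρ : ∀ g : G, (ρ g).hom ≫ f = f) [IsProper f] [LocallyOfFiniteType q] : IsProper q := by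
  have hsurj : Surjective p := ⟨(Groth.Agent.S2908.result ρ p hp).1⟩
  have hsep : IsSeparated q := (Groth.Agent.S2909.result ρ p hp f q hq hρ).2.1.mp inferInstance
  have huc : UniversallyClosed (p ≫ q) := hq ▸ inferInstance
  have huc' : UniversallyClosed q := UniversallyClosed.of_comp_surjective (f := p) (g := q)
  exact ⟨⟩

end K754.TameQuot
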