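import Groth.Agent.Sga1.QuotBasic
import Groth.Agent.S9821
import Mathlib.AlgebraicGeometry.Morphisms.FlatRank
import Mathlib.AlgebraicGeometry.Morphisms.Separated
import Mathlib.FieldTheory.Galois.IsGaloisGroup

/-!
# Quotients of integral schemes by finite groups

`isIntegral`, `isNormalScheme`: the quotient of an integral (normal) scheme is integral (normal);
`isGaloisGroup`: for a faithful action the group is a Galois group of the sections over every nonempty affine open;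
`finrank_eq_card`: if moreover `p` is finite and flat, it has rank `|G|` everywhere.
-/

set_option autoImplicit false
set_option linter.style.haveILetI false
universe u

open CategoryTheory CategoryTheory.Limits AlgebraicGeometry

namespace K754.QuotInt

open Groth.Agent.Sga1.QuotBasic

variable {X Y S : Scheme.{u}} {G : Type u} [Group G] [Finite G] {ρ : G →* Aut X} {p : X ⟶ Y}

theorem nonempty_preimage (hp : SGA1.IsQuot ρ p) (V : Y.Opens) [h : Nonempty V] :
    Nonempty (p ⁻¹ᵁ V) := by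
  obtain ⟨y, hy⟩ := h
  obtain ⟨x, rfl⟩ := surjective_of_isQuot hp y
  exact ⟨⟨x, hy⟩⟩

/-- The quotient of an integral scheme is integral. -/
theorem isIntegral (hp : SGA1.IsQuot ρ p) [IsIntegral X] : IsIntegral Y := by
  refine ⟨⟨p (Classical.arbitrary X)⟩, fun V hV => ?_⟩
  have := nonempty_preimage hp V
  exact (quotOn_of_isQuot hp V).injective.isDomain _

/-- The sections over a nonempty affine open of the quotient of an integral normal scheme are integrally
closed. -/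
theorem isNormalScheme (hp : SGA1.IsQuot ρ p) [IsIntegral X] (hX : Pi1.IsNormalScheme X) :
    Pi1.IsNormalScheme Y := by
  have := isIntegral hp
  have := hp.affine
  rw [Groth.Agent.S9821.result Y]
  intro V _ hV
  have hne := nonempty_preimage hp V
  have hB : IsIntegrallyClosed Γ(X, p ⁻¹ᵁ V) :=
    (Groth.Agent.S9821.result X).mp hX (p ⁻¹ᵁ V) (hV.preimage p)
  have hq := quotOn_of_isQuot hp V
  letI := sectionAlgebra p V
  have hinj : Function.Injective (algebraMap Γ(Y, V) Γ(X, p ⁻¹ᵁ V)) := hq.injective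
  rw [isIntegrallyClosed_iff (FractionRing Γ(Y, V))]
  intro x hx
  obtain ⟨a, b, hb, rfl⟩ := IsFractionRing.div_surjective (A := Γ(Y, V)) x
  have hb0 : b ≠ 0 := nonZeroDivisors.ne_zero hb
  let f : FractionRing Γ(Y, V) →+* FractionRing Γ(X, p ⁻¹ᵁ V) :=
    IsFractionRing.map hinj
  have hf : ∀ c : Γ(Y, V), f (algebraMap Γ(Y, V) _ c) =
      algebraMap Γ(X, p ⁻¹ᵁ V) _ (algebraMap Γ(Y, V) Γ(X, p ⁻¹ᵁ V) c) :=
    fun c => IsLocalization.map_eq _ c
  have h1 : IsIntegral Γ(X, p ⁻¹ᵁ V) (f (algebraMap Γ(Y, V) _ a / algebraMap Γ(Y, V) _ b)) := by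
    refine hx.map_of_comp_eq (algebraMap Γ(Y, V) Γ(X, p ⁻¹ᵁ V)) f ?_
    ext c
    exact (hf c).symm
  obtain ⟨y, hy⟩ := IsIntegrallyClosed.isIntegral_iff.mp h1
  have hbR : algebraMap Γ(Y, V) Γ(X, p ⁻¹ᵁ V) b ≠ 0 := by
    rwa [Ne, map_eq_zero_iff _ hinj]
  rw [map_div₀, hf, hf, eq_div_iff (by
    rwa [Ne, FaithfulSMul.algebraMap_eq_zero_iff]), ← map_mul] at hy
  have hy' : y * algebraMap Γ(Y, V) Γ(X, p ⁻¹ᵁ V) b = algebraMap Γ(Y, V) Γ(X, p ⁻¹ᵁ V) a :=
    FaithfulSMul.algebraMap_injective _ (FractionRing Γ(X, p ⁻¹ᵁ V)) hy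
  obtain ⟨c, hc⟩ := hq.surj y (fun g => by
    have h2 := congrArg (act ρ (stable_preimage hp.inv V) g).hom hy'
    rw [map_mul] at h2
    have h3 : ∀ d : Γ(Y, V), (act ρ (stable_preimage hp.inv V) g).hom
        (algebraMap Γ(Y, V) Γ(X, p ⁻¹ᵁ V) d) = algebraMap Γ(Y, V) Γ(X, p ⁻¹ᵁ V) d :=
      fun d => act_app_apply hp.inv V g d
    rw [h3, h3, ← hy'] at h2
    exact mul_right_cancel₀ hbR h2)
  refine ⟨c, ?_⟩
  rw [eq_div_iff (by rwa [Ne, FaithfulSMul.algebraMap_eq_zero_iff]), ← map_mul]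
  congr 1
  apply hinj
  rw [map_mul]
  exact (congrArg (· * _) hc).trans hy'

/-- For a faithful action on an integral separated scheme, `G` is a Galois group of the sections over any nonempty
affine open. -/
theorem isGaloisGroup (hp : SGA1.IsQuot ρ p) [IsIntegral X] (f : X ⟶ S) [IsSeparated f]
    (hρ : ∀ g : G, (ρ g).hom ≫ f = f) (hinj : Function.Injective ρ) {V : Y.Opens} (hV : IsAffineOpen V)
    [Nonempty V] :
    letI := sectionAlgebra p V
    letI := mulSemiringAction ρ (stable_preimage hp.inv V)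
    IsGaloisGroup G Γ(Y, V) Γ(X, p ⁻¹ᵁ V) := by
  letI := sectionAlgebra p V
  letI := mulSemiringAction ρ (stable_preimage hp.inv V)
  have hq := quotOn_of_isQuot hp V
  have := hp.affine
  refine ⟨⟨fun {g h} hgh => ?_⟩, smulCommClass_sections hp.inv V, hq.isInvariant⟩
  have hW : IsAffineOpen (p ⁻¹ᵁ V) := hV.preimage p
  have hne := nonempty_preimage hp V
  -- the two restrictions to `p⁻¹ V` agree
  have hst := stable_preimage hp.inv V
  have h1 : act ρ hst g⁻¹ = act ρ hst h⁻¹ := by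
    ext s
    exact hgh s
  have h2 : (p ⁻¹ᵁ V).ι ≫ (ρ g⁻¹).hom = (p ⁻¹ᵁ V).ι ≫ (ρ h⁻¹).hom := by
    have h3 : ∀ a : G, hW.fromSpec ≫ (ρ a).hom = Spec.map (act ρ hst a) ≫ hW.fromSpec := fun a =>
      (IsAffineOpen.SpecMap_appLE_fromSpec (ρ a).hom hW hW (hst a)).symm
    have h4 : hW.fromSpec ≫ (ρ g⁻¹).hom = hW.fromSpec ≫ (ρ h⁻¹).hom := by
      rw [h3, h3, h1]
    have h5 : (p ⁻¹ᵁ V).ι = hW.isoSpec.hom ≫ hW.fromSpec := by
      rw [hW.isoSpec_hom_fromSpec]
    rw [h5, Category.assoc, Category.assoc, h4]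
  have h6 : IsDominant (p ⁻¹ᵁ V).ι := by
    refine ⟨?_⟩
    rw [DenseRange, Scheme.Opens.range_ι]
    exact (p ⁻¹ᵁ V).isOpen.dense (by obtain ⟨x, hx⟩ := hne; exact ⟨x, hx⟩)
  have h7 : (ρ g⁻¹).hom = (ρ h⁻¹).hom :=
    ext_of_isDominant_of_isSeparated f (by rw [hρ, hρ]) (p ⁻¹ᵁ V).ι h2
  exact inv_injective (hinj (Iso.ext h7))

/-- A finite flat quotient of an integral separated scheme by a faithful action has rank `|G|`. -/
theorem finrank_eq_card (hp : SGA1.IsQuot ρ p) [IsIntegral X] (f : X ⟶ S) [IsSeparated f]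
    (hρ : ∀ g : G, (ρ g).hom ≫ f = f) (hinj : Function.Injective ρ) [IsFinite p] [Flat p] (y : Y) :
    p.finrank y = Nat.card G := by
  obtain ⟨V, hV, hyV⟩ := exists_affine_mem y
  obtain ⟨q, rfl⟩ : y ∈ Set.range hV.fromSpec := by
    rw [hV.range_fromSpec]; exact hyV
  have hne : Nonempty V := ⟨⟨_, hyV⟩⟩
  have hneX := nonempty_preimage hp V
  have hW : IsAffineOpen (p ⁻¹ᵁ V) := hV.preimage p
  have sq : IsPullback hW.fromSpec (Spec.map (p.app V)) p hV.fromSpec := by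
    refine IsPullback.flip ?_
    apply IsOpenImmersion.isPullback
    · have := (IsAffineOpen.SpecMap_appLE_fromSpec p hV hW le_rfl).symm
      rwa [Scheme.Hom.appLE_eq_app] at this
    · rw [IsAffineOpen.opensRange_fromSpec, IsAffineOpen.opensRange_fromSpec]
  rw [← Scheme.Hom.finrank_of_isPullback _ _ _ _ sq q]
  have h1 : (p.app V).hom.Finite := IsFinite.finite_app p V hV
  have h2 : (p.app V).hom.Flat := by
    have := p.flat_appLE hV hW le_rfl
    rwa [Scheme.Hom.appLE_eq_app] at this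
  rw [Scheme.Hom.finrank_SpecMap_eq_finrank h1 h2]
  letI := sectionAlgebra p V
  letI := mulSemiringAction ρ (stable_preimage hp.inv V)
  have hG : IsGaloisGroup G Γ(Y, V) Γ(X, p ⁻¹ᵁ V) := isGaloisGroup hp f hρ hinj hV
  have hfin : Module.Finite Γ(Y, V) Γ(X, p ⁻¹ᵁ V) := h1
  have hflat : Module.Flat Γ(Y, V) Γ(X, p ⁻¹ᵁ V) := h2
  have hinj' : Function.Injective (algebraMap Γ(Y, V) Γ(X, p ⁻¹ᵁ V)) :=
    (quotOn_of_isQuot hp V).injective
  have hfs : FaithfulSMul Γ(Y, V) Γ(X, p ⁻¹ᵁ V) := (faithfulSMul_iff_algebraMap_injective _ _).mpr hinj'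
  have hdom : IsDomain Γ(Y, V) := hinj'.isDomain _
  change Module.rankAtStalk (R := Γ(Y, V)) Γ(X, p ⁻¹ᵁ V) q = _
  rw [IsGaloisGroup.card_eq_finrank' G Γ(Y, V) Γ(X, p ⁻¹ᵁ V),
    ← Ideal.finrank_fiber_eq_finrank (M := Γ(X, p ⁻¹ᵁ V)) q.asIdeal]
  exact (q.asIdeal.finrank_fiber_eq_rankAtStalk).symm

end K754.QuotInt
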