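import Groth.Agent.Curves.K754.TameQuot
import Groth.Agent.Curves.K754.QuotInt
import Groth.Agent.S10887
import Groth.Agent.JacVar.K533.CurveBasic
import Groth.Agent.S0115
import Groth.Agent.Variety.K432.CurveNorm
import Groth.Agent.S4717
import Groth.Agent.CurvesB.DimPts
import Groth.Agent.Stein.K469.Integral
import Groth.Agent.Sga4B.SmoothNormal

/-!
# The quotient of a smooth proper curve by a finite group of invertible order
-/

set_option autoImplicit false
universe u

open CategoryTheory CategoryTheory.Limits AlgebraicGeometry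

namespace K754.QuotCurve

open Groth.Agent

theorem isUnit_card {k : Type u} [Field k] {n : ℕ} (hn : (n : k) ≠ 0) :
    IsUnit ((n : ℕ) : Γ(Spec (CommRingCat.of k), ⊤)) := by
  have h : IsUnit ((n : ℕ) : k) := isUnit_iff_ne_zero.mpr hn
  have h2 := h.map (Scheme.ΓSpecIso (CommRingCat.of k)).inv.hom
  rwa [map_natCast] at h2

/-- Properties of the quotient of a smooth proper geometrically connected curve. -/
theorem main (k : Type u) [Field k]
    {X Y : Scheme.{u}} (p : X ⟶ Spec (CommRingCat.of k)) [IsProper p] [Smooth p] [GeometricallyConnected p]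
    (hX : topologicalKrullDim ↥X = 1)
    {G : Type u} [Group G] [Finite G] (hG : ((Nat.card G : ℕ) : k) ≠ 0)
    (ρ : G →* Aut X) (hρ : Function.Injective ρ) (hρk : ∀ g : G, (ρ g).hom ≫ p = p)
    (π : X ⟶ Y) (q : Y ⟶ Spec (CommRingCat.of k)) (hπ : π ≫ q = p) (hquot : SGA1.IsQuot ρ π) :
    IsProper q ∧ Smooth q ∧ GeometricallyConnected q ∧ topologicalKrullDim ↥Y = 1 ∧
      IsFinite π ∧ Flat π ∧ ∀ y : Y, π.finrank y = Nat.card G := by
  have hN := isUnit_card hG
  have hXi : IsIntegral X := K533.CurveBasic.isIntegral p
  have hYi : IsIntegral Y := K754.QuotInt.isIntegral hquot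
  have hsurj : Surjective π := ⟨Sga1.QuotBasic.surjective_of_isQuot hquot⟩
  have hfin : IsFinite π := (S2909.result ρ π hquot p q hπ hρk).2.2.1 inferInstance
  have hqlfp : LocallyOfFinitePresentation q :=
    K754.TameQuot.locallyOfFinitePresentation hquot hπ hρk hN
  have hqprop : IsProper q := K754.TameQuot.isProper hquot hπ hρk
  have hXn : IsLocallyNoetherian X := LocallyOfFiniteType.isLocallyNoetherian p
  have hYn : IsLocallyNoetherian Y := LocallyOfFiniteType.isLocallyNoetherian q
  have hdimY : topologicalKrullDim ↥Y = 1 := by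
    rw [← hX]
    exact ((S4717.result π).2 hsurj.surj).symm
  have hYnorm : Pi1.IsNormalScheme Y :=
    K754.QuotInt.isNormalScheme hquot (Sga4B.SmoothNormal.isNormalScheme_of_smooth p)
  have hYreg : ∀ y : Y, IsRegularLocalRing (Y.presheaf.stalk y) := by
    intro y
    have h1 := (hYnorm y).2
    exact K432.CurveNorm.isRegularLocalRing_of_isIntegrallyClosed _
      ((CurvesB.DimPts.ringKrullDim_stalk_le y).trans hdimY.le)
  have hYq : QuasiCompact q := inferInstance
  have hYcpt : CompactSpace Y := by
    have : CompactSpace (Spec (CommRingCat.of k)) := inferInstance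
    exact QuasiCompact.compactSpace_of_compactSpace q
  have hYnoeth : IsNoetherian Y := {}
  have hflat : Flat π := by
    rw [S10887.result hYreg hdimY.le π]
    intro Z hZ
    rw [irreducibleComponents_eq_singleton, Set.mem_singleton_iff] at hZ
    rw [hZ, Set.image_univ]
    exact hsurj.surj.denseRange
  have hsm' : Smooth (π ≫ q) := hπ ▸ inferInstance
  have hgc' : GeometricallyConnected (π ≫ q) := hπ ▸ inferInstance
  exact ⟨hqprop, S0115.smooth_of_comp_field k π q, K469.Integral.geometricallyConnected_of_comp π q,
    hdimY, hfin, hflat, K754.QuotInt.finrank_eq_card hquot p hρk hρ⟩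

end K754.QuotCurve
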