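import Groth.Agent.Curves.K754.QuotCurve
import Groth.Agent.AlgSp.K633.FlatCore
import Groth.Agent.AlgSp.K633.FlatBC
import Groth.Agent.RelQuot.K928.QuotTame
import Groth.Agent.Flat2D.LfpComp

/-!
# The quotient of a family of smooth curves by a finite group of invertible order

`pullAct`: the action induced on a base change; `isQuot_fiber`: the fibres of a tame quotient are quotients of the
fibres; `main`: families of curves.
-/

set_option autoImplicit false
universe u

open CategoryTheory CategoryTheory.Limits AlgebraicGeometry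

namespace K754.QuotFam

open Groth.Agent Groth.Agent.Sga1.QuotBasic

section Pull

variable {X S X' S' : Scheme.{u}} {G : Type u} [Group G] {f : X ⟶ S} {b' : X' ⟶ X} {f' : X' ⟶ S'}
  {b : S' ⟶ S} (sq : IsPullback b' f' f b) (ρ : G →* Aut X) (hρ : ∀ g : G, (ρ g).hom ≫ f = f)

/-- The base change of an automorphism. -/
noncomputable def pullHom (g : G) : X' ⟶ X' :=
  sq.lift (b' ≫ (ρ g).hom) f' (by rw [Category.assoc, hρ, sq.w])

theorem pullHom_left (g : G) : pullHom sq ρ hρ g ≫ b' = b' ≫ (ρ g).hom := sq.lift_fst _ _ _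

theorem pullHom_right (g : G) : pullHom sq ρ hρ g ≫ f' = f' := sq.lift_snd _ _ _

theorem pullHom_one : pullHom sq ρ hρ 1 = 𝟙 X' := by
  apply sq.hom_ext
  · rw [pullHom_left, hom_one, Category.comp_id, Category.id_comp]
  · rw [pullHom_right, Category.id_comp]

theorem pullHom_mul (g h : G) :
    pullHom sq ρ hρ (g * h) = pullHom sq ρ hρ h ≫ pullHom sq ρ hρ g := by
  apply sq.hom_ext
  · rw [pullHom_left, hom_mul, Category.assoc, pullHom_left, ← Category.assoc, ← Category.assoc,
      pullHom_left]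
  · rw [pullHom_right, Category.assoc, pullHom_right, pullHom_right]

/-- The base change of an action. -/
noncomputable def pullAct : G →* Aut X' where
  toFun g :=
    { hom := pullHom sq ρ hρ g
      inv := pullHom sq ρ hρ g⁻¹
      hom_inv_id := by rw [← pullHom_mul, inv_mul_cancel, pullHom_one]
      inv_hom_id := by rw [← pullHom_mul, mul_inv_cancel, pullHom_one] }
  map_one' := Iso.ext (pullHom_one sq ρ hρ)
  map_mul' g h := Iso.ext (pullHom_mul sq ρ hρ g h)

theorem pullAct_left (g : G) : (pullAct sq ρ hρ g).hom ≫ b' = b' ≫ (ρ g).hom :=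
  pullHom_left sq ρ hρ g

theorem pullAct_right (g : G) : (pullAct sq ρ hρ g).hom ≫ f' = f' := pullHom_right sq ρ hρ g

end Pull

section Fiber

variable {X Y S : Scheme.{u}} {G : Type u} [Group G] {π : X ⟶ Y} {q : Y ⟶ S} (ρ : G →* Aut X)
  (hρ : ∀ g : G, (ρ g).hom ≫ π ≫ q = π ≫ q)

/-- The action on the fibre over `s`. -/
noncomputable def fibAct (s : S) : G →* Aut ((π ≫ q).fiber s) :=
  pullAct (IsPullback.of_hasPullback (π ≫ q) (S.fromSpecResidueField s)) ρ hρ

theorem fibAct_left (s : S) (g : G) :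
    (fibAct ρ hρ s g).hom ≫ (π ≫ q).fiberι s = (π ≫ q).fiberι s ≫ (ρ g).hom :=
  pullAct_left _ ρ hρ g

theorem fibAct_right (s : S) (g : G) :
    (fibAct ρ hρ s g).hom ≫ (π ≫ q).fiberToSpecResidueField s = (π ≫ q).fiberToSpecResidueField s :=
  pullAct_right _ ρ hρ g

variable {ρ}

/-- The fibres of a tame quotient are the quotients of the fibres. -/
theorem isQuot_fiber [Finite G] (hquot : SGA1.IsQuot ρ π) (hG : IsUnit ((Nat.card G : ℕ) : Γ(S, ⊤))) (s : S) :
    SGA1.IsQuot (fibAct ρ hρ s) (MoreMor.fiberMap π q s) := by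
  refine K928.QuotTame.isQuot_baseChange hquot
    (K633.FlatBC.isPullback_fiberMap_fiberι π q s).flip _ (fibAct_left ρ hρ s) (fun g => ?_)
    (K754.TameQuot.isUnit_card_pull q hG)
  have hY : IsPullback (q.fiberι s) (q.fiberToSpecResidueField s) q (S.fromSpecResidueField s) :=
    IsPullback.of_hasPullback q (S.fromSpecResidueField s)
  apply hY.hom_ext
  · rw [Category.assoc, K633.FlatBC.fiberMap_fiberι, ← Category.assoc, fibAct_left, Category.assoc,
      hquot.inv g]
  · rw [Category.assoc, K633.FlatBC.fiberMap_toSpec, fibAct_right]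

theorem card_residueField_ne_zero {n : ℕ} (hn : IsUnit ((n : ℕ) : Γ(S, ⊤))) (s : S) :
    ((n : ℕ) : S.residueField s) ≠ 0 := by
  have h1 := K754.TameQuot.isUnit_card_pull (S.fromSpecResidueField s) hn
  have h2 := h1.map (Scheme.ΓSpecIso (S.residueField s)).hom.hom
  rw [map_natCast] at h2
  exact h2.ne_zero

theorem fibAct_injective
    (hfaith : ∀ (s : S) (a : G), a ≠ 1 → ∃ x : X, (π ≫ q) x = s ∧ (ρ a).hom x ≠ x) (s : S) :
    Function.Injective (fibAct ρ hρ s) := by
  rw [injective_iff_map_eq_one]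
  intro a ha
  by_contra hne
  obtain ⟨x, rfl, hx⟩ := hfaith s a hne
  apply hx
  have h2 : (fibAct ρ hρ ((π ≫ q) x) a).hom = 𝟙 _ := by rw [ha]; rfl
  have h3 := fibAct_left ρ hρ ((π ≫ q) x) a
  rw [h2, Category.id_comp] at h3
  have h4 : ((π ≫ q).fiberι ((π ≫ q) x) ≫ (ρ a).hom) ((π ≫ q).asFiber x) =
      (π ≫ q).fiberι ((π ≫ q) x) ((π ≫ q).asFiber x) := by rw [← h3]
  rw [Scheme.Hom.comp_apply, Scheme.Hom.fiberι_asFiber] at h4
  exact h4

/-- The quotient of a family of smooth proper curves. -/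
theorem main [Finite G] (hρ : ∀ g : G, (ρ g).hom ≫ π ≫ q = π ≫ q) [IsProper (π ≫ q)] [Smooth (π ≫ q)] [GeometricallyConnected (π ≫ q)]
    (hdim : ∀ s : S, topologicalKrullDim ↥((π ≫ q).fiber s) = 1)
    (hG : IsUnit ((Nat.card G : ℕ) : Γ(S, ⊤)))
    (hfaith : ∀ (s : S) (a : G), a ≠ 1 → ∃ x : X, (π ≫ q) x = s ∧ (ρ a).hom x ≠ x)
    (hquot : SGA1.IsQuot ρ π) :
    IsProper q ∧ Smooth q ∧ GeometricallyConnected q ∧ (∀ s : S, topologicalKrullDim ↥(q.fiber s) = 1) ∧
      IsFinite π ∧ Flat π ∧ LocallyOfFinitePresentation π ∧ ∀ y : Y, π.finrank y = Nat.card G := by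
  have hsurj : Surjective π := ⟨surjective_of_isQuot hquot⟩
  have hfin : IsFinite π := (S2909.result ρ π hquot (π ≫ q) q rfl hρ).2.2.1 inferInstance
  have hqlfp : LocallyOfFinitePresentation q :=
    K754.TameQuot.locallyOfFinitePresentation hquot rfl hρ hG
  have hqprop : IsProper q := K754.TameQuot.isProper hquot rfl hρ
  have hπlfp : LocallyOfFinitePresentation π := Flat2D.LfpComp.lfp_of_comp π q
  have hprop : ∀ s : S, IsProper ((π ≫ q).fiberToSpecResidueField s) := fun s =>
    inferInstanceAs (IsProper (pullback.snd (π ≫ q) (S.fromSpecResidueField s)))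
  have hsm : ∀ s : S, Smooth ((π ≫ q).fiberToSpecResidueField s) := fun s =>
    inferInstanceAs (Smooth (pullback.snd (π ≫ q) (S.fromSpecResidueField s)))
  have key := fun s : S => K754.QuotCurve.main (S.residueField s) ((π ≫ q).fiberToSpecResidueField s) (hdim s)
    (card_residueField_ne_zero hG s) (fibAct ρ hρ s) (fibAct_injective hρ hfaith s)
    (fibAct_right ρ hρ s) (MoreMor.fiberMap π q s) (q.fiberToSpecResidueField s)
    (K633.FlatBC.fiberMap_toSpec π q s) (isQuot_fiber hρ hquot hG s)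
  have hflat : Flat π := by
    apply Flat.of_stalkMap
    intro x
    exact (K633.FlatCore.flat_of_fibres_lfp π q (fun s => (key s).2.2.2.2.2.1) x).2
  refine ⟨hqprop, S0115.result π q, K469.Integral.geometricallyConnected_of_comp π q,
    fun s => (key s).2.2.2.1, hfin, hflat, hπlfp, fun y => ?_⟩
  have h1 := (key (q y)).2.2.2.2.2.2 (q.asFiber y)
  rw [Scheme.Hom.finrank_of_isPullback _ _ _ _
    (K633.FlatBC.isPullback_fiberMap_fiberι π q (q y)).flip, Scheme.Hom.fiberι_asFiber] at h1
  exact h1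

end Fiber

end K754.QuotFam
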